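import Cfsg.Agent.Mrg.LargeExtra.WN3
import Cfsg.Agent.Fischer480.AllPieces
import Cfsg.Agent.Fischer891.FinalSym
import Cfsg.Agent.Fischer891.FinalO
import Cfsg.Agent.Fischer919.FinalU
import Cfsg.Agent.Fischer919.OmegaMain
import Cfsg.Agent.Fischer545.TEight
import Cfsg.Prelude.Def_Classification2
import Cfsg.Agent.Mrg.Omega.FrameI
import Cfsg.Agent.Mrg.Omega.Node.LargeOf
import Cfsg.Agent.Mrg.Omega.NO3S.Basic
import Cfsg.Agent.Classification.TitsFin.Defs

section


/-!
# The exit of the weakly closed case: `G` is a known simple group (helper876)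

`known_of_wc`: `G` finite simple nonabelian, `Q` large extraspecial for `z` of order at least `2 ^ 11` (width at
least five), `z` weakly closed in `Q`: `G` is `PSU_n(2)` or `PΩ_{2m+1}(3)`, so a known simple group.
-/

set_option autoImplicit false

namespace Cfsg.Agent.Omega.Exit.WeakClosed

open Cfsg Cfsg.Agent.Co2Type.Quad Cfsg.Agent.Fischer480.Defs Cfsg.Agent.Omega.Exit.Types

universe u

variable {G : Type u} [Group G] [Finite G]

/-- a simple group of unitary 3-transposition type -/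
theorem isPSU_of_isU [IsSimpleGroup G] (hna : ∃ x y : G, x * y ≠ y * x) {D : Set G} (hD : FGroup D) {n : ℕ}
    (hn : 4 ≤ n) (hU : IsU n D) : IsPSU G := by
  obtain ⟨F, i1, i2, f, U⟩ := Cfsg.Agent.S0480U.UModel.exists_um hU
  have hFD := Cfsg.Agent.SporadicStructure.FischerSpace.fdata_of_class hD.cls
  have hfin := U.fin
  obtain ⟨e, -⟩ := Cfsg.Agent.Fischer920.PsuEnd.exists_equiv_psu hFD
    (Cfsg.Agent.Fischer919.OmegaMain.center_eq_bot hna)
    (Cfsg.Agent.Fischer919.FinalU.hyp_of_um U hn hFD) U.card U.herm U.dim hn f U.ne U.iso U.comm U.inj U.surj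
  exact ⟨F, i1, i2, n, 2, by rw [U.card]; norm_num, by omega, by omega, ⟨e⟩⟩

/-- a simple group of orthogonal 3-transposition type over the field of three elements -/
theorem isPOmegaOdd_of_isR [IsSimpleGroup G] (hna : ∃ x y : G, x * y ≠ y * x) {D : Set G} (hD : FGroup D) {n : ℕ}
    (hn : 6 ≤ n) (hR : IsR n D) : IsPOmegaOdd G := by
  obtain ⟨m, hm, ⟨e⟩⟩ := Cfsg.Agent.Fischer919.OmegaMain.exists_equiv_pomega hna
    (Cfsg.Agent.SporadicStructure.FischerSpace.fdata_of_class hD.cls) hn hR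
  refine ⟨ZMod 3, inferInstance, inferInstance, m, by omega, ?_, ⟨e⟩⟩
  rw [ZMod.card]
  decide

/-- **the exit of the weakly closed case** -/
theorem known_of_wc [IsSimpleGroup G] (hG : ¬ IsMulCommutative G) {Q : Subgroup G} {z : G} (h : Large Q z)
    (hQ : 2 ^ 11 ≤ Nat.card Q) (hwc : ∀ g : G, g * z * g⁻¹ ∈ Q → g * z * g⁻¹ = z) : IsKnownSimple' G := by
  have hnc : ∃ a b : G, a * b ≠ b * a := by
    by_contra hcon
    push Not at hcon
    exact hG ⟨⟨hcon⟩⟩
  have hR : Cfsg.Agent.LargeExtra.WCIrr.NoRefl Q z :=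
    Cfsg.Agent.LargeExtra.WCIrr.noRefl_of_index h (by omega) (fun H => Cfsg.Agent.LargeExtra.WCIrr.index_ne_two hnc H)
  have hz : z ∈ Cfsg.Agent.LargeExtra.WCIrr.cls z := ⟨1, by group⟩
  have hg := (Cfsg.Agent.LargeExtra.WCIrr.allN_of_wc h hQ hwc hR).geoN
  obtain ⟨x, y, a, b, H⟩ := exists_four hG hg hz
  have hF := Cfsg.Agent.Fischer480.AllPieces.fgroup hnc (hg.isThree hG hz)
  have R := Cfsg.Agent.Fischer891.Cases.rk_of_fgroup hF
  rcases Cfsg.Agent.Fischer480.AllPieces.inList hF with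
    ⟨n, hn, h⟩ | ⟨n, hn, h⟩ | ⟨n, hn, h⟩ | ⟨n, hn, h⟩ | ⟨n, hn, h⟩ | h | h | h
  · exact (Cfsg.Agent.Fischer891.FinalSym.not_simple_of_isSym R hn h).elim
  · exact (H.not_isSp h).elim
  · exact (Cfsg.Agent.Fischer891.FinalO.not_simple_of_isO R hn h).elim
  · exact Or.inr (Or.inr (Or.inr (Or.inr (Or.inl (isPSU_of_isU hnc hF hn h)))))
  · exact Or.inr (Or.inr (Or.inr (Or.inr (Or.inr (Or.inl (isPOmegaOdd_of_isR hnc hF hn h))))))
  · exact (H.not_isT6 h).elim
  · exact (H.not_isT7 h).elim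
  · exact (Cfsg.Agent.Fischer545.TEight.not_simple (hg.isThree hG hz) h inferInstance).elim

end Cfsg.Agent.Omega.Exit.WeakClosed

end

section


/-!
# The leaf WC: `O₂(C_G(z))` extraspecial of width at least 5, `z` weakly closed (helper888)
-/

set_option autoImplicit false

namespace Cfsg.Agent.Omega.Node.WC

open Subgroup Cfsg Cfsg.Agent.ZN Cfsg.Agent.Omega.Frame Cfsg.Agent.Omega.FrameExtra Cfsg.Agent.Omega.Exits
open Cfsg.Agent.Omega.Node.LargeOf

universe u

/-- **LeafWC** -/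
theorem leafWC (K : Cls.{u}) : LeafWC K := by
  intro G _ _ hG _ z n hn h _ hwc
  have := hG.simple
  refine Cfsg.Agent.Omega.Exit.WeakClosed.known_of_wc hG.nonComm (large hG.char2 h) ?_ hwc
  rw [card_o2 h]
  exact Nat.pow_le_pow_right (by norm_num) (by omega)

end Cfsg.Agent.Omega.Node.WC

end

section


/-!
# The leaf NO-3S from its parts (project OMEGA, assembler: helper172)

The leaf is `FrameNOFF.NodeNO3S K` (`Omega/FrameNOFF.lean`): NOFF, `V_P ≤ O₂(C_G(Z))` for all `P ∈ P*(S)`,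
`⟨P, C_G(Z)⟩` nonlocal.  `K` is the class parameter of `Frame.lean` (`Frame.All` for the even half, `StrQ` for
SQT).  Every input is a named `Prop` below, with its owner in the doc string; `In K` collects them,
`In.node : In K → NodeNO3S K`; the inputs which are still open are the fields of `Open K`
(`Node/NO3SPlug.lean`).

`P** =` the members `P` of `P*(S)` with `⟨P, C_G(Z)⟩` nonlocal.

```
NodeNO3S
├── Two        some P in P** has |V_P| = 4                  (q = 2; hypothesis `Hyp` only: also EXIT N2)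
│   ├── TwoFar n ≥ 3 impossible        ├── TwoMid n = 2 impossible
│   └── TwoOne n = 1   ├── TwoOneFin   the final configuration `FinHyp`      └── TitsIso
├── some P in P** has J(S) ≰ O₂(P)  (`HypJ S P`)
│   ├── NatQ       V_P natural SL₂(q), q ≥ 4
│   │   ├── Fld    |Z| ≠ q (field automorphisms in S)      ├── UniqQ  |Z| = q: P is the only line type
│   │   ├── FarQ   n ≥ 3 impossible        ├── MidQ   n = 2 impossible      └── OneQ    n = 1: ²F₄(q)
│   └── Multi      V_P not natural SL₂(q)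
│       ├── MultiTwo  k ≥ 2 naturals, q = 2        ├── MultiQ  k ≥ 2 naturals, q ≥ 4
│       └── MultiSym  even-subset modules: SymTwo (k = 1, m = 2), SymBig (k = 1, m ≥ 3), SymMany (k ≥ 2)
└── all P in P** have J(S) ≤ O₂(P)  (`HypC S`)
    ├── NotFF      no V_P, P in P**, is an FF-module
    └── FFJ        some V_P, P in P**, is an FF-module
```
-/

set_option autoImplicit false

namespace Cfsg.Agent.Omega.NO3S

open Subgroup Cfsg Cfsg.Agent.ZN Cfsg.Agent.Omega.MinPar Cfsg.Agent.Omega.Frame Cfsg.Agent.Omega.FrameNOFF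
open Cfsg.Agent.Omega.FrameFF (NatOver cv Single Free)
open Cfsg.Agent.Omega.FFThm (Stmt NatK SymK)
open Cfsg.Agent.Omega.NoFF.Lines Cfsg.Agent.Omega.NatPair
open Cfsg.Agent.MinSimple.VModule
open Cfsg.Agent.Classification.TitsFin (FinHyp)
open scoped Pointwise

universe u

variable (K : Cls.{u})

/-! ### Level 1 -/

/-- **NO-3S, `q = 2`**: `|V_P| = 4`; only `Hyp` (nothing about the other members of `P*(S)`), because it is also
the target of "EXIT N2" of case FF (#12838, #12859; use `Hyp.of_four`). -/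
def Two : Prop :=
  ∀ (G : Type u) [Group G] [Finite G], K G → ∀ (S : Sylow 2 G) (P : Subgroup G), Hyp S P →
    Nat.card (zl (S : Subgroup G) P) = 4 → IsKnownSimple' G

/-- **NO-3S, natural, `q ≥ 4`, `J(S) ≰ O₂(P)`**. -/
def NatQ : Prop :=
  ∀ (G : Type u) [Group G] [Finite G], K G → ∀ (S : Sylow 2 G) (P : Subgroup G), HypJ S P →
    ∀ (F : Type) [Field F] [Finite F] [CharP F 2], 4 ≤ Nat.card F →
      NatP F (zl (S : Subgroup G) P) P → IsKnownSimple' G

/-- **NO-3S, not natural, `J(S) ≰ O₂(P)`** (`k ≥ 2` blocks or `S_{2^m+1}`). -/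
def Multi : Prop :=
  ∀ (G : Type u) [Group G] [Finite G], K G → ∀ (S : Sylow 2 G) (P : Subgroup G), HypJ S P →
    ¬ Single (S : Subgroup G) P → IsKnownSimple' G

/-- **NO-3S, `J(S) ≤ O₂(P)` for all `P ∈ P**`**. -/
def JC : Prop :=
  ∀ (G : Type u) [Group G] [Finite G], K G → ∀ S : Sylow 2 G, HypC S → IsKnownSimple' G

variable {K}

theorem card_field {F : Type*} [Field F] [Finite F] [CharP F 2] : ∃ n, 1 ≤ n ∧ Nat.card F = 2 ^ n := by
  have : Fintype F := Fintype.ofFinite F
  obtain ⟨k, -, hk⟩ := FiniteField.card F 2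
  exact ⟨k, k.pos, by rw [Nat.card_eq_fintype_card, hk]⟩

theorem card_field' {F : Type*} [Field F] [Finite F] [CharP F 2] : Nat.card F = 2 ∨ 4 ≤ Nat.card F := by
  obtain ⟨n, hn, h⟩ := card_field (F := F)
  rcases Nat.lt_or_ge n 2 with h1 | h1
  · left
    have : n = 1 := by omega
    rw [h, this, pow_one]
  · right
    rw [h]
    calc 4 = 2 ^ 2 := by norm_num
      _ ≤ 2 ^ n := Nat.pow_le_pow_right (by norm_num) h1

/-- **The leaf from level 1.** -/
theorem nodeNO3S (h1 : Two K) (h2 : NatQ K) (h3 : Multi K) (h4 : JC K) : NodeNO3S K := by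
  intro G _ _ hG hK S hF hm hlow hex
  by_cases hfour : ∃ P : Subgroup G, IsParS (S : Subgroup G) P ∧ NonLoc P (CZ (S : Subgroup G)) ∧
      Nat.card (zl (S : Subgroup G) P) = 4
  · obtain ⟨P, hP, hn, hc⟩ := hfour
    exact h1 G hK S P (Hyp.of hG hF hm hlow hP hn) hc
  push Not at hfour
  by_cases hJ : ∃ P : Subgroup G, IsParS (S : Subgroup G) P ∧ NonLoc P (CZ (S : Subgroup G)) ∧
      ¬ jj (S : Subgroup G) ≤ o2 P
  · obtain ⟨P, hP, hn, hj⟩ := hJ
    have h : HypJ S P := ⟨HypN.of hG hF hm hlow hP hn, hj⟩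
    by_cases hN : Single (S : Subgroup G) P
    · obtain ⟨F, _, _, _, ⟨M⟩⟩ := h.toHyp.exists_natP hN
      refine h2 G hK S P h F ?_ M
      rcases card_field' (F := F) with h5 | h5
      · exact absurd (by rw [M.card, h5]; norm_num) (hfour P hP hn)
      · exact h5
    · exact h3 G hK S P h hN
  · push Not at hJ
    exact h4 G hK S ⟨hG, hF, hm, hlow, hex, hfour, hJ⟩

/-! ### Level 2, `q = 2` -/

variable (K)

/-- `q = 2`, critical distance `n ≥ 3`: impossible. Paper: helper292 #13844 (refereed by helper438; helper263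
#12025, helper557 #14156) with (F1) = helper299 #12132; Lean: helper127, 293, 210, 441, 784, 451. -/
def TwoFar : Prop :=
  ∀ (G : Type u) [Group G] [Finite G], K G → ∀ (S : Sylow 2 G) (P : Subgroup G), Hyp S P →
    Nat.card (zl (S : Subgroup G) P) = 4 →
      ∀ (n : ℕ) (y : G), 3 ≤ n → CritP (S : Subgroup G) P n 1 y → IsKnownSimple' G

/-- `q = 2`, critical distance `n = 2`: impossible. Owners: helper986, 424, 804, 502; Lean: helper740, 701. -/
def TwoMid : Prop :=
  ∀ (G : Type u) [Group G] [Finite G], K G → ∀ (S : Sylow 2 G) (P : Subgroup G), Hyp S P →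
    Nat.card (zl (S : Subgroup G) P) = 4 →
      ∀ y : G, CritP (S : Subgroup G) P 2 1 y → IsKnownSimple' G

/-- `q = 2`, critical distance `n = 1`: the Tits group. -/
def TwoOne : Prop :=
  ∀ (G : Type u) [Group G] [Finite G], K G → ∀ (S : Sylow 2 G) (P : Subgroup G), Hyp S P →
    Nat.card (zl (S : Subgroup G) P) = 4 →
      ∀ y : G, CritP (S : Subgroup G) P 1 1 y → IsKnownSimple' G

/-- `q = 2`, critical distance `n = 1`: the final configuration of the Tits group (all other modules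
`W / Z` are impossible). Paper: helper881 #12858, #13700; helper311 #13963; helper986, 424; end: helper55
#12700. Lean: helper391, 862, 568, 539, 204, 409, 312, 258. -/
def TwoOneFin : Prop :=
  ∀ (G : Type u) [Group G] [Finite G], K G → ∀ (S : Sylow 2 G) (P : Subgroup G), Hyp S P →
    Nat.card (zl (S : Subgroup G) P) = 4 →
      ∀ y : G, CritP (S : Subgroup G) P 1 1 y → (∃ z p : G, FinHyp z p) ∨ IsKnownSimple' G

/-- The final configuration gives the Tits group. LANDED (`Omega/TitsIso/MainIso.lean`). -/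
def TitsIso : Prop :=
  ∀ (G : Type u) [Group G] [Finite G], IsSimpleGroup G → IsCharacteristicTwoType G →
    ∀ z p : G, FinHyp z p → Lie.IsoTits G

variable {K}

theorem two (h1 : TwoFar K) (h2 : TwoMid K) (h3 : TwoOne K) : Two K := by
  intro G _ _ hK S P h hc
  obtain ⟨n, hn, y, hy⟩ := h.exists_crit
  rcases Nat.lt_or_ge n 3 with h4 | h4
  · interval_cases n
    · exact h3 G hK S P h hc y hy
    · exact h2 G hK S P h hc y hy
  · exact h1 G hK S P h hc n y h4 hy

theorem IsKnownSimple'.of_tits {G : Type*} [Group G] (h : Lie.IsoTits G) : IsKnownSimple' G := by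
  refine Or.inr (Or.inr (Or.inr (Or.inr (Or.inr (Or.inr (Or.inr (Or.inr (Or.inl ?_))))))))
  unfold IsExceptionalLieType
  tauto

theorem twoOne (h1 : TwoOneFin K) (h2 : TitsIso.{u}) : TwoOne K := by
  intro G _ _ hK S P h hc y hy
  rcases h1 G hK S P h hc y hy with ⟨z, p, hf⟩ | h3
  · exact IsKnownSimple'.of_tits (h2 G h.ctx.simple h.ctx.char2 z p hf)
  · exact h3

/-! ### Level 2, `q ≥ 4` -/

variable (K)

/-- `q ≥ 4`, `Z` is not an `F`-line of `V` (field automorphisms in `S`). Owners: helper973 (paper), helper163. -/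
def Fld : Prop :=
  ∀ (G : Type u) [Group G] [Finite G], K G → ∀ (S : Sylow 2 G) (P : Subgroup G), HypJ S P →
    ∀ (F : Type) [Field F] [Finite F] [CharP F 2], 4 ≤ Nat.card F →
      NatP F (zl (S : Subgroup G) P) P → Nat.card (zc (S : Subgroup G)) ≠ Nat.card F → IsKnownSimple' G

/-- `Z` a line: `V_R = V_P` and `C_Z(R) = 1` for all `R ∈ P*(S)`; gives (TI) and (NS). Paper: helper44
#14528 (LEMMA UNIQ); Lean: helper880, 812. -/
def UniqQ : Prop :=
  ∀ (G : Type u) [Group G] [Finite G], K G → ∀ (S : Sylow 2 G) (P : Subgroup G), HypJ S P →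
    ∀ (F : Type) [Field F] [Finite F] [CharP F 2], 4 ≤ Nat.card F →
      NatP F (zl (S : Subgroup G) P) P → Nat.card (zc (S : Subgroup G)) = Nat.card F →
      Uniq (S : Subgroup G) P ∨ IsKnownSimple' G

/-- `q ≥ 4`, `Z` a line, critical distance `n ≥ 3` (points = conjugates of `Z`). Paper: helper263 #12025,
helper44 #13339. Lean: helper127, 49, 471, 694. -/
def FarQ : Prop :=
  ∀ (G : Type u) [Group G] [Finite G], K G → ∀ (S : Sylow 2 G) (P : Subgroup G), HypJ S P →
    ∀ (F : Type) [Field F] [Finite F] [CharP F 2], 4 ≤ Nat.card F →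
      NatP F (zl (S : Subgroup G) P) P → Nat.card (zc (S : Subgroup G)) = Nat.card F → Uniq (S : Subgroup G) P →
      ∀ (n : ℕ) (y : G), 3 ≤ n → CritN (S : Subgroup G) P n 1 y → IsKnownSimple' G

/-- `q ≥ 4`, `Z` a line, critical distance `n = 2`. Owners: helper44, 426, 397; Lean: helper805, 475. -/
def MidQ : Prop :=
  ∀ (G : Type u) [Group G] [Finite G], K G → ∀ (S : Sylow 2 G) (P : Subgroup G), HypJ S P →
    ∀ (F : Type) [Field F] [Finite F] [CharP F 2], 4 ≤ Nat.card F →
      NatP F (zl (S : Subgroup G) P) P → Nat.card (zc (S : Subgroup G)) = Nat.card F → Uniq (S : Subgroup G) P →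
      ∀ y : G, CritN (S : Subgroup G) P 2 1 y → IsKnownSimple' G

/-- `q ≥ 4`, `Z` a line, critical distance `n = 1`: `²F₄(q)`. Owners: helper742, 153 #12862 (down to `Sz(q)`),
helper279 #12906 (from `Sz(q)` to the hypotheses of the recognition theorem), helper382 #13707 (`G = ⟨M, C⟩`).
Lean: helper258, 248, 452, 606, 382. -/
def OneQ : Prop :=
  ∀ (G : Type u) [Group G] [Finite G], K G → ∀ (S : Sylow 2 G) (P : Subgroup G), HypJ S P →
    ∀ (F : Type) [Field F] [Finite F] [CharP F 2], 4 ≤ Nat.card F →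
      NatP F (zl (S : Subgroup G) P) P → Nat.card (zc (S : Subgroup G)) = Nat.card F → Uniq (S : Subgroup G) P →
      ∀ y : G, CritN (S : Subgroup G) P 1 1 y → IsKnownSimple' G

variable {K}

theorem natQ (h0 : Fld K) (h' : UniqQ K) (h1 : FarQ K) (h2 : MidQ K) (h3 : OneQ K) : NatQ K := by
  intro G _ _ hK S P h F _ _ _ hF M
  by_cases hZ : Nat.card (zc (S : Subgroup G)) = Nat.card F
  · rcases h' G hK S P h F hF M hZ with hT | h5
    · obtain ⟨n, hn, y, hy⟩ := h.toHyp.exists_critN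
      rcases Nat.lt_or_ge n 3 with h4 | h4
      · interval_cases n
        · exact h3 G hK S P h F hF M hZ hT y hy
        · exact h2 G hK S P h F hF M hZ hT y hy
      · exact h1 G hK S P h F hF M hZ hT n y h4 hy
    · exact h5
  · exact h0 G hK S P h F hF M hZ

/-! ### Level 2, FF-modules with several blocks (with the FF theorem, `FF/GlobEnd.lean`) -/

variable (K)

/-- `V_P` is the sum of `k ≥ 2` natural `SL₂(2)`-modules. Owners: helper790, 8 (OM1 = #13281, (R7)). -/
def MultiTwo : Prop :=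
  ∀ (G : Type u) [Group G] [Finite G], K G → ∀ (S : Sylow 2 G) (P : Subgroup G), HypJ S P →
    ∀ (F : Type) [Field F] [Finite F] [CharP F 2] (k : ℕ), 2 ≤ k → Nat.card F = 2 →
      NatK F (S : Subgroup G) P (zl (S : Subgroup G) P) (cv (S : Subgroup G) P) k → IsKnownSimple' G

/-- `V_P` is the sum of `k ≥ 2` natural `SL₂(q)`-modules, `q ≥ 4`. Owners: helper4, 997 (#13281 (R6), #14470). -/
def MultiQ : Prop :=
  ∀ (G : Type u) [Group G] [Finite G], K G → ∀ (S : Sylow 2 G) (P : Subgroup G), HypJ S P →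
    ∀ (F : Type) [Field F] [Finite F] [CharP F 2] (k : ℕ), 2 ≤ k → 4 ≤ Nat.card F →
      NatK F (S : Subgroup G) P (zl (S : Subgroup G) P) (cv (S : Subgroup G) P) k → IsKnownSimple' G

/-- `V_P` is the sum of `k ≥ 1` even-subset modules of `S_{2^m+1}`, `m ≥ 2`. -/
def MultiSym : Prop :=
  ∀ (G : Type u) [Group G] [Finite G], K G → ∀ (S : Sylow 2 G) (P : Subgroup G), HypJ S P →
    ∀ k m : ℕ, 0 < k → 2 ≤ m →
      SymK (S : Subgroup G) P (zl (S : Subgroup G) P) (cv (S : Subgroup G) P) k m → IsKnownSimple' G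

/-- `MultiSym`, `k = 1`, `m = 2`: `P / C_P(V) = S₅`, `V = O₄⁻(2)`. Owners: helper215 #14965. -/
def SymTwo : Prop :=
  ∀ (G : Type u) [Group G] [Finite G], K G → ∀ (S : Sylow 2 G) (P : Subgroup G), HypJ S P →
      SymK (S : Subgroup G) P (zl (S : Subgroup G) P) (cv (S : Subgroup G) P) 1 2 → IsKnownSimple' G

/-- `MultiSym`, `k = 1`, `m ≥ 3`. Owner: helper62 (blueprints/OMEGA-NO3S-Sym-helper62.md). -/
def SymBig : Prop :=
  ∀ (G : Type u) [Group G] [Finite G], K G → ∀ (S : Sylow 2 G) (P : Subgroup G), HypJ S P →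
    ∀ m : ℕ, 3 ≤ m →
      SymK (S : Subgroup G) P (zl (S : Subgroup G) P) (cv (S : Subgroup G) P) 1 m → IsKnownSimple' G

/-- `MultiSym`, `k ≥ 2`. Owners: helper215, 237, 977. -/
def SymMany : Prop :=
  ∀ (G : Type u) [Group G] [Finite G], K G → ∀ (S : Sylow 2 G) (P : Subgroup G), HypJ S P →
    ∀ k m : ℕ, 2 ≤ k → 2 ≤ m →
      SymK (S : Subgroup G) P (zl (S : Subgroup G) P) (cv (S : Subgroup G) P) k m → IsKnownSimple' G

variable {K}

theorem multiSym (h1 : SymTwo K) (h2 : SymBig K) (h3 : SymMany K) : MultiSym K := by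
  intro G _ _ hK S P h k m hk hm M
  rcases Nat.lt_or_ge k 2 with hk2 | hk2
  · obtain rfl : k = 1 := by omega
    rcases Nat.lt_or_ge m 3 with hm2 | hm2
    · obtain rfl : m = 2 := by omega
      exact h1 G hK S P h M
    · exact h2 G hK S P h m hm2 M
  · exact h3 G hK S P h k m hk2 hm M

theorem multi (hFF : Stmt.{u}) (h1 : MultiTwo K) (h2 : MultiQ K) (h3 : MultiSym K) : Multi K := by
  intro G _ _ hK S P h hs
  obtain ⟨-, ⟨F, _, _, _, k, hk, ⟨M⟩⟩ | ⟨k, m, hk, hm, ⟨M⟩⟩⟩ := h.ff hFF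
  · rcases Nat.lt_or_ge k 2 with hk2 | hk2
    · obtain rfl : k = 1 := by omega
      exact absurd M.single hs
    · rcases card_field' (F := F) with h5 | h5
      · exact h1 G hK S P h F k hk2 h5 M
      · exact h2 G hK S P h F k hk2 h5 M
  · exact h3 G hK S P h k m hk hm M

/-! ### Level 2, `J(S) ≤ O₂(P)` for all `P ∈ P**` -/

variable (K)

/-- No `V_P`, `P ∈ P**`, is an FF-module. Owners: helper672 (local part), 768, 498, 857, 329, 897, 99 #13645,
706 #14028, 265, 526, 510. -/
def NotFF : Prop :=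
  ∀ (G : Type u) [Group G] [Finite G], K G → ∀ S : Sylow 2 G, HypC S →
    (∀ P : Subgroup G, IsParS (S : Subgroup G) P → NonLoc P (CZ (S : Subgroup G)) →
      ¬ FFMod (S : Subgroup G) P) → IsKnownSimple' G

/-- Some `V_P`, `P ∈ P**`, is an FF-module, but `J(S) ≤ O₂(P)` for all `P ∈ P**` (types of `V_P`:
`FFThm.StmtM`, `Hyp.ff`). Owner: ? (helper163's (G0) #14711, helper4) -/
def FFJ : Prop :=
  ∀ (G : Type u) [Group G] [Finite G], K G → ∀ (S : Sylow 2 G) (P : Subgroup G), HypC S →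
    IsParS (S : Subgroup G) P → NonLoc P (CZ (S : Subgroup G)) → FFMod (S : Subgroup G) P → IsKnownSimple' G

variable {K}

theorem jc (h1 : NotFF K) (h2 : FFJ K) : JC K := by
  intro G _ _ hK S h
  by_cases hf : ∃ P : Subgroup G, IsParS (S : Subgroup G) P ∧ NonLoc P (CZ (S : Subgroup G)) ∧
      FFMod (S : Subgroup G) P
  · obtain ⟨P, hP, hn, hff⟩ := hf
    exact h2 G hK S P h hP hn hff
  · push Not at hf
    exact h1 G hK S h hf

/-! ### The leaf -/

/-- **All the inputs of the leaf**; the proved ones are discharged in `Node/NO3SPlug.lean`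
(`Open K`, `Open.toIn`). -/
structure In (K : Cls.{u}) : Prop where
  ff : Stmt.{u}
  twoFar : TwoFar K
  twoMid : TwoMid K
  twoOneFin : TwoOneFin K
  titsIso : TitsIso.{u}
  fld : Fld K
  uniqQ : UniqQ K
  farQ : FarQ K
  midQ : MidQ K
  oneQ : OneQ K
  multiTwo : MultiTwo K
  multiQ : MultiQ K
  symTwo : SymTwo K
  symBig : SymBig K
  symMany : SymMany K
  notFF : NotFF K
  ffJ : FFJ K

/-- **The leaf.** -/
theorem In.node (I : In K) : NodeNO3S K :=
  nodeNO3S (two I.twoFar I.twoMid (twoOne I.twoOneFin I.titsIso)) (natQ I.fld I.uniqQ I.farQ I.midQ I.oneQ)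
    (multi I.ff I.multiTwo I.multiQ (multiSym I.symTwo I.symBig I.symMany)) (jc I.notFF I.ffJ)

end Cfsg.Agent.Omega.NO3S

end

section


/-!
# Leaf NO-3S: moved to `Omega/Node/NO3S.lean` (same namespace `Omega.NO3S`)
-/

end
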